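import Cfsg.Agent.S3957
import Cfsg.Agent.S3974

/-!
# Uniqueness of a perfect central extension with elementary abelian kernel of order four

If the Schur multiplier `A` of a perfect group `Q` has exactly `|A| / 4` squares, then two finite stem
extensions of `Q` whose kernels have order four and exponent two are isomorphic: both are quotients
of the (unique) Schur cover by the subgroup of the squares of its kernel.
-/

set_option autoImplicit false

namespace Cfsg.Agent.Lib.Helper5.CoverUniq

open Cfsg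

universe u

/-- a finite group has a copy in the lowest universe -/
theorem exists_small_copy (L : Type*) [Group L] [Finite L] :
    ∃ (L' : Type) (_ : Group L') (_ : Finite L'), Nonempty (L ≃* L') := by
  obtain ⟨n, ⟨e⟩⟩ := Finite.exists_equiv_fin L
  let e' : {k : ℕ // k < n} ≃ L := (Fin.equivSubtype.symm.trans e.symm)
  letI : Group {k : ℕ // k < n} := e'.group
  exact ⟨{k : ℕ // k < n}, inferInstance, Finite.of_equiv (Fin n) Fin.equivSubtype,
    ⟨(e'.mulEquiv).symm⟩⟩

/-- a stem extension, seen from an isomorphic copy of its source -/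
theorem stem_transport {L L' Q : Type*} [Group L] [Group L'] [Group Q] (j : L ≃* L') (τ : L →* Q)
    (h : IsStemExtension τ) : IsStemExtension (τ.comp j.symm.toMonoidHom) := by
  obtain ⟨h1, h2, h3⟩ := h
  refine ⟨h1.comp j.symm.surjective, ?_, ?_⟩
  · intro x hx
    have hx' : j.symm x ∈ τ.ker := hx
    have hc := h2 hx'
    rw [Subgroup.mem_center_iff] at hc ⊢
    intro y
    have := congrArg j (hc (j.symm y))
    simpa using this
  · intro x hx
    have hx' : j.symm x ∈ τ.ker := hx
    have hc := h3 hx'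
    have : x = j.toMonoidHom (j.symm x) := by simp
    rw [this, commutator_def]
    have : Subgroup.map j.toMonoidHom ⁅(⊤ : Subgroup L), ⊤⁆ = ⁅(⊤ : Subgroup L'), ⊤⁆ := by
      rw [Subgroup.map_commutator]
      have ht : Subgroup.map j.toMonoidHom (⊤ : Subgroup L) = ⊤ := by
        rw [← MonoidHom.range_eq_map, MonoidHom.range_eq_top]
        exact j.surjective
      rw [ht]
    rw [← this]
    exact Subgroup.mem_map_of_mem _ (by rwa [commutator_def] at hc)

/-- the kernel of a quotient map of a stem extension by the squares of the multiplier -/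
theorem ker_eq_squares {Γ L Q A : Type*} [Group Γ] [Finite Γ] [Group L] [Finite L] [Group Q]
    [CommGroup A] [Finite A] (σ : Γ →* Q) (hσ : Function.Surjective σ) (i : σ.ker ≃* A)
    (β : Γ →* L) (hβ : Function.Surjective β) (τ : L →* Q) (hτ : Function.Surjective τ)
    (hcomp : τ.comp β = σ) (h4 : Nat.card τ.ker = 4) (h2 : ∀ x ∈ τ.ker, x * x = 1)
    (hA : Nat.card A = 4 * Nat.card (powMonoidHom 2 : A →* A).range) :
    β.ker = (((powMonoidHom 2 : A →* A).range.comap i.toMonoidHom).map σ.ker.subtype) := by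
  have hQ : Finite Q := Finite.of_surjective σ hσ
  set S := (((powMonoidHom 2 : A →* A).range.comap i.toMonoidHom).map σ.ker.subtype) with hS
  -- the squares lie in the kernel
  have hle : S ≤ β.ker := by
    rintro _ ⟨z, hz, rfl⟩
    obtain ⟨a, ha⟩ := hz
    have hz2 : z = (i.symm a) ^ 2 := by
      apply i.injective
      rw [map_pow, MulEquiv.apply_symm_apply]
      exact ha.symm
    rw [MonoidHom.mem_ker, hz2]
    have hw : β ((i.symm a : σ.ker) : Γ) ∈ τ.ker := by
      rw [MonoidHom.mem_ker, ← MonoidHom.comp_apply, hcomp]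
      exact (i.symm a).2
    show β (((i.symm a) ^ 2 : σ.ker) : Γ) = 1
    rw [Subgroup.coe_pow, map_pow, pow_two]
    exact h2 _ hw
  -- the cardinalities agree
  have c1 : Nat.card Γ = Nat.card Q * Nat.card σ.ker := by
    rw [← Nat.card_congr (QuotientGroup.quotientKerEquivOfSurjective σ hσ).toEquiv]
    exact Subgroup.card_eq_card_quotient_mul_card_subgroup σ.ker
  have c2 : Nat.card Γ = Nat.card L * Nat.card β.ker := by
    rw [← Nat.card_congr (QuotientGroup.quotientKerEquivOfSurjective β hβ).toEquiv]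
    exact Subgroup.card_eq_card_quotient_mul_card_subgroup β.ker
  have c3 : Nat.card L = Nat.card Q * Nat.card τ.ker := by
    rw [← Nat.card_congr (QuotientGroup.quotientKerEquivOfSurjective τ hτ).toEquiv]
    exact Subgroup.card_eq_card_quotient_mul_card_subgroup τ.ker
  have c4 : Nat.card σ.ker = Nat.card A := Nat.card_congr i.toEquiv
  have c5 : Nat.card S = Nat.card (powMonoidHom 2 : A →* A).range := by
    rw [hS, Subgroup.card_map_of_injective (Subtype.val_injective)]
    exact Nat.card_congr (i.toEquiv.subtypeEquiv (fun _ => Iff.rfl))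
  have hQpos : 0 < Nat.card Q := Nat.card_pos
  have hcard : Nat.card β.ker = Nat.card S := by
    rw [c3, h4, c1, c4, hA, ← c5] at c2
    have : Nat.card Q * (4 * Nat.card S) = Nat.card Q * (4 * Nat.card β.ker) := by
      rw [c2]; ring
    have := Nat.eq_of_mul_eq_mul_left hQpos this
    omega
  exact (Subgroup.eq_of_le_of_card_ge hle (le_of_eq hcard)).symm

/-- two stem extensions of a perfect group with kernels of order four and exponent two are
isomorphic, when the multiplier has exactly a quarter of its elements as squares -/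
theorem unique_of_squares {Q A : Type} [Group Q] [Finite Q] [CommGroup A] [Finite A]
    (hmult : HasSchurMultiplier Q A) (hperf : commutator Q = ⊤)
    (hA : Nat.card A = 4 * Nat.card (powMonoidHom 2 : A →* A).range)
    {L₁ L₂ : Type} [Group L₁] [Finite L₁] [Group L₂] [Finite L₂]
    (τ₁ : L₁ →* Q) (hτ₁ : IsStemExtension τ₁) (h4₁ : Nat.card τ₁.ker = 4)
    (h2₁ : ∀ x ∈ τ₁.ker, x * x = 1)
    (τ₂ : L₂ →* Q) (hτ₂ : IsStemExtension τ₂) (h4₂ : Nat.card τ₂.ker = 4)
    (h2₂ : ∀ x ∈ τ₂.ker, x * x = 1) : Nonempty (L₁ ≃* L₂) := by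
  obtain ⟨Γ₁, _, _, σ₁, hσ₁, ⟨i₁⟩, β₁, hβ₁, hc₁⟩ := Cfsg.Agent.S3957.result hmult τ₁ hτ₁
  obtain ⟨Γ₂, _, _, σ₂, hσ₂, ⟨i₂⟩, β₂, hβ₂, hc₂⟩ := Cfsg.Agent.S3957.result hmult τ₂ hτ₂
  have cop : Nat.Coprime (Nat.card (Abelianization Q)) (Nat.card A) := by
    have : Nat.card (Abelianization Q) = 1 := by
      show Nat.card (Q ⧸ commutator Q) = 1
      rw [← Subgroup.index_eq_card, hperf, Subgroup.index_top]
    rw [this]
    exact Nat.coprime_one_left _
  obtain ⟨e, he⟩ := (Cfsg.Agent.S3974.result hmult).2 cop Γ₁ Γ₂ σ₁ σ₂ hσ₁ hσ₂ ⟨i₁⟩ ⟨i₂⟩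
  have hsurj : Function.Surjective (β₂.comp e.toMonoidHom) := hβ₂.comp e.surjective
  have k1 := ker_eq_squares σ₁ hσ₁.1 i₁ β₁ hβ₁ τ₁ hτ₁.1 hc₁ h4₁ h2₁ hA
  have k2 := ker_eq_squares σ₁ hσ₁.1 i₁ (β₂.comp e.toMonoidHom) hsurj τ₂ hτ₂.1
    (by rw [← MonoidHom.comp_assoc, hc₂, he]) h4₂ h2₂ hA
  have hk : β₁.ker = (β₂.comp e.toMonoidHom).ker := k1.trans k2.symm
  exact ⟨(QuotientGroup.quotientKerEquivOfSurjective β₁ hβ₁).symm.trans
    ((QuotientGroup.quotientMulEquivOfEq hk).trans
      (QuotientGroup.quotientKerEquivOfSurjective _ hsurj))⟩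

/-- the stem extension given by a quasisimple group and an identification of its central quotient -/
theorem stem_of_quasisimple {L Q : Type*} [Group L] [Group Q] (h : IsQuasisimple L)
    (e : L ⧸ Subgroup.center L ≃* Q) :
    IsStemExtension (e.toMonoidHom.comp (QuotientGroup.mk' (Subgroup.center L))) ∧
      (e.toMonoidHom.comp (QuotientGroup.mk' (Subgroup.center L))).ker = Subgroup.center L := by
  have hker : (e.toMonoidHom.comp (QuotientGroup.mk' (Subgroup.center L))).ker =
      Subgroup.center L := by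
    ext x
    rw [MonoidHom.mem_ker, MonoidHom.comp_apply]
    show e (QuotientGroup.mk' (Subgroup.center L) x) = 1 ↔ _
    rw [MulEquiv.map_eq_one_iff, QuotientGroup.mk'_apply, QuotientGroup.eq_one_iff]
  refine ⟨⟨e.surjective.comp (QuotientGroup.mk'_surjective _), ?_, ?_⟩, hker⟩
  · rw [hker]
  · rw [hker]
    haveI := h.1
    rw [Group.IsPerfect.commutator_eq_top]
    exact le_top

theorem ker_card_transport {L L' Q : Type*} [Group L] [Group L'] [Group Q] (j : L ≃* L')
    (τ : L →* Q) : Nat.card (τ.comp j.symm.toMonoidHom).ker = Nat.card τ.ker :=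
  Nat.card_congr (j.symm.toEquiv.subtypeEquiv (fun _ => Iff.rfl))

theorem ker_sq_transport {L L' Q : Type*} [Group L] [Group L'] [Group Q] (j : L ≃* L')
    (τ : L →* Q) (h : ∀ x ∈ τ.ker, x * x = 1) :
    ∀ x ∈ (τ.comp j.symm.toMonoidHom).ker, x * x = 1 := by
  intro x hx
  have hx' : j.symm x ∈ τ.ker := hx
  have := congrArg j (h _ hx')
  simpa using this

/-- the general statement: quasisimple groups with centre of order four and exponent two over the
same perfect group whose multiplier has a quarter of its elements as squares are isomorphic -/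
theorem quasisimple_unique {Q A : Type} [Group Q] [Finite Q] [CommGroup A] [Finite A]
    (hmult : HasSchurMultiplier Q A)
    (hA : Nat.card A = 4 * Nat.card (powMonoidHom 2 : A →* A).range)
    {L₁ L₂ : Type*} [Group L₁] [Finite L₁] [Group L₂] [Finite L₂]
    (h₁ : IsQuasisimple L₁) (h₂ : IsQuasisimple L₂)
    (hc₁ : Nat.card (Subgroup.center L₁) = 4) (hc₂ : Nat.card (Subgroup.center L₂) = 4)
    (he₁ : ∀ x ∈ Subgroup.center L₁, x * x = 1) (he₂ : ∀ x ∈ Subgroup.center L₂, x * x = 1)
    (e₁ : L₁ ⧸ Subgroup.center L₁ ≃* Q) (e₂ : L₂ ⧸ Subgroup.center L₂ ≃* Q) :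
    Nonempty (L₁ ≃* L₂) := by
  obtain ⟨L₁', _, _, ⟨j₁⟩⟩ := exists_small_copy L₁
  obtain ⟨L₂', _, _, ⟨j₂⟩⟩ := exists_small_copy L₂
  obtain ⟨s₁, k₁⟩ := stem_of_quasisimple h₁ e₁
  obtain ⟨s₂, k₂⟩ := stem_of_quasisimple h₂ e₂
  set τ₁ := e₁.toMonoidHom.comp (QuotientGroup.mk' (Subgroup.center L₁)) with hτ₁
  set τ₂ := e₂.toMonoidHom.comp (QuotientGroup.mk' (Subgroup.center L₂)) with hτ₂
  have hperf : commutator Q = ⊤ := by
    haveI := h₁.1
    haveI : Group.IsPerfect Q := Group.IsPerfect.ofSurjective s₁.1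
    exact Group.IsPerfect.commutator_eq_top
  obtain ⟨f⟩ := unique_of_squares hmult hperf hA
    (τ₁.comp j₁.symm.toMonoidHom) (stem_transport j₁ τ₁ s₁)
    (by rw [ker_card_transport j₁ τ₁, k₁]; exact hc₁) (ker_sq_transport j₁ τ₁ (by rw [k₁]; exact he₁))
    (τ₂.comp j₂.symm.toMonoidHom) (stem_transport j₂ τ₂ s₂)
    (by rw [ker_card_transport j₂ τ₂, k₂]; exact hc₂) (ker_sq_transport j₂ τ₂ (by rw [k₂]; exact he₂))
  exact ⟨j₁.trans (f.trans j₂.symm)⟩

/-- the multiplier of `L3(4)` has 48 elements, 12 of them squares -/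
theorem card_mult_l34 :
    Nat.card (Multiplicative (ZMod 3 × ZMod 4 × ZMod 4)) =
      4 * Nat.card (powMonoidHom 2 : Multiplicative (ZMod 3 × ZMod 4 × ZMod 4) →*
        Multiplicative (ZMod 3 × ZMod 4 × ZMod 4)).range := by
  rw [Nat.card_eq_fintype_card, Nat.card_eq_fintype_card]
  decide

end Cfsg.Agent.Lib.Helper5.CoverUniq
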